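import Groth.Agent.H29Fitt.LocFree
import Mathlib.RingTheory.LocalRing.Quotient
import Mathlib.RingTheory.LocalProperties.Projective
import Mathlib.RingTheory.LocalRing.Module

/-!
# When maps out of a finitely presented module form free modules of rank `r` after every base change
-/

set_option autoImplicit false
set_option linter.style.haveILetI false

noncomputable section

universe u

open scoped TensorProduct

namespace Groth.Agent.LeadStrat

variable {A : Type u} [CommRing A] (Q : Type u) [AddCommGroup Q] [Module A Q] (r : ℕ)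

/-- Maps from `Q` to the `A`-algebra `R` are free of rank `r`. -/
def HomRank {R : Type u} [CommRing R] (ρ : A →+* R) : Prop :=
  letI := ρ.toAlgebra
  ∃ Φ : (Fin r → R) ≃+ (Q →ₗ[A] R), ∀ (b : R) (v : Fin r → R), Φ (b • v) = b • Φ v

/-- The Fitting conditions of rank `r` after base change. -/
def IdealCond {R : Type u} [CommRing R] (ρ : A →+* R) : Prop :=
  (Fitt.ideal A Q r).map ρ = ⊤ ∧ ∀ k, k < r → (Fitt.ideal A Q k).map ρ = ⊥

variable {Q r}

theorem IdealCond.comp {R R' : Type u} [CommRing R] [CommRing R'] {ρ : A →+* R} (h : IdealCond Q r ρ)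
    (φ : R →+* R') : IdealCond Q r (φ.comp ρ) :=
  ⟨by rw [← Ideal.map_map, h.1, Ideal.map_top], fun k hk => by rw [← Ideal.map_map, h.2 k hk, Ideal.map_bot]⟩

theorem HomRank.transfer {R R' : Type u} [CommRing R] [CommRing R'] {ρ : A →+* R} (h : HomRank Q r ρ)
    (σ : R ≃+* R') : HomRank Q r (σ.toRingHom.comp ρ) := by
  letI := ρ.toAlgebra
  obtain ⟨Φ, hΦ⟩ := h
  letI := (σ.toRingHom.comp ρ).toAlgebra
  let τ : R ≃ₗ[A] R' := { σ with map_smul' := fun a x => map_mul σ (ρ a) x }
  refine ⟨(AddEquiv.piCongrRight fun _ : Fin r => σ.symm.toAddEquiv).trans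
    (Φ.trans (LinearEquiv.congrRight τ : (Q →ₗ[A] R) ≃ₗ[A] (Q →ₗ[A] R')).toAddEquiv), fun b v => ?_⟩
  refine LinearMap.ext fun q => ?_
  show σ (Φ (fun i => σ.symm (b * v i)) q) = b * σ (Φ (fun i => σ.symm (v i)) q)
  rw [show (fun i => σ.symm (b * v i)) = σ.symm b • fun i => σ.symm (v i) from funext fun i => map_mul σ.symm _ _,
    hΦ, LinearMap.smul_apply, smul_eq_mul, map_mul, σ.apply_symm_apply]

/-- Read the definition with a given algebra structure. -/
theorem HomRank.exists_equiv {R : Type u} [CommRing R] [inst : Algebra A R] {ρ : A →+* R}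
    (h : HomRank Q r ρ) (e : ρ = algebraMap A R) :
    ∃ Φ : (Fin r → R) ≃+ (Q →ₗ[A] R), ∀ (b : R) (v : Fin r → R), Φ (b • v) = b • Φ v := by
  obtain rfl : inst = ρ.toAlgebra := Algebra.algebra_ext _ _ fun a => by subst e; rfl
  exact h

theorem finrank_hom [Module.Finite A Q] {K : Type u} [Field K] [Algebra A K] :
    Module.finrank K (Q →ₗ[A] K) = Module.finrank K (K ⊗[A] Q) := by
  rw [(LinearMap.liftBaseChangeEquiv K).finrank_eq]
  exact Subspace.dual_finrank_eq

/-- Over a field the conditions say that the dimension is `r`. -/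
theorem idealCond_field_iff [Module.Finite A Q] {K : Type u} [Field K] [Algebra A K] :
    IdealCond Q r (algebraMap A K) ↔ Module.finrank K (Q →ₗ[A] K) = r := by
  simp only [IdealCond, ← H29Fitt.ideal_baseChange, H29Fitt.ideal_field, finrank_hom]
  constructor
  · rintro ⟨h1, h2⟩
    split_ifs at h1 with h
    · refine le_antisymm h (le_of_not_gt fun hlt => ?_)
      have := h2 _ hlt
      rw [if_pos le_rfl] at this
      exact top_ne_bot this
    · exact absurd h1.symm top_ne_bot
  · rintro h
    exact ⟨if_pos h.le, fun k hk => if_neg (by omega)⟩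

section field

variable {K K' : Type u} [Field K] [Field K'] (φ : K →+* K') {ρ : A →+* K}

theorem idealCond_comp_field_iff : IdealCond Q r (φ.comp ρ) ↔ IdealCond Q r ρ := by
  refine ⟨fun h => ⟨?_, fun k hk => ?_⟩, fun h => h.comp φ⟩
  · rcases ((Fitt.ideal A Q r).map ρ).eq_bot_or_top with h0 | h0
    · have := h.1
      rw [← Ideal.map_map, h0, Ideal.map_bot] at this
      exact absurd this bot_ne_top
    · exact h0
  · have := h.2 k hk
    rw [← Ideal.map_map] at this
    exact (Ideal.map_eq_bot_iff_of_injective φ.injective).1 this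

theorem map_eq_top_comp_field_iff (k : ℕ) :
    (Fitt.ideal A Q k).map (φ.comp ρ) = ⊤ ↔ (Fitt.ideal A Q k).map ρ = ⊤ := by
  rw [← Ideal.map_map]
  rcases ((Fitt.ideal A Q k).map ρ).eq_bot_or_top with h0 | h0 <;> simp [h0, Ideal.map_top]

end field

variable [Module.FinitePresentation A Q]

/-- Over a local ring the conditions give freeness. -/
theorem exists_basis_of_idealCond {R : Type u} [CommRing R] [IsLocalRing R] [Algebra A R]
    (h : IdealCond Q r (algebraMap A R)) : Nonempty (Module.Basis (Fin r) R (R ⊗[A] Q)) := by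
  have h1 : Fitt.ideal R (R ⊗[A] Q) r = ⊤ := by rw [H29Fitt.ideal_baseChange]; exact h.1
  obtain ⟨f, hf, m, hm⟩ := H29Fitt.exists_spansUpTo_powers (M := R ⊗[A] Q) (k := r)
    (p := IsLocalRing.maximalIdeal R) (by rw [h1]; exact fun hle => (IsLocalRing.maximalIdeal.isMaximal R).ne_top (top_le_iff.1 hle))
  have hu : IsUnit f := not_not.1 hf
  have hspan : ⊤ ≤ Submodule.span R (Set.range m) := fun y _ => by
    obtain ⟨_, ⟨n, rfl⟩, hy⟩ := hm y
    rwa [Submodule.smul_mem_iff_of_isUnit _ (hu.pow n)] at hy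
  have hli : LinearIndependent R m := Fintype.linearIndependent_iff.2 fun c hc i =>
    congrFun (H29Fitt.eq_zero_of_ideal_eq_bot m (top_le_iff.1 hspan)
      (fun k hk => by rw [H29Fitt.ideal_baseChange]; exact h.2 k hk) c hc) i
  exact ⟨Module.Basis.mk hli hspan⟩

theorem homRank_of_idealCond {R : Type u} [CommRing R] [IsLocalRing R] {ρ : A →+* R} (h : IdealCond Q r ρ) :
    HomRank Q r ρ := by
  letI := ρ.toAlgebra
  obtain ⟨b⟩ := exists_basis_of_idealCond (R := R) h
  let Φ : (Fin r → R) ≃ₗ[R] (Q →ₗ[A] R) := (b.constr R).trans (LinearMap.liftBaseChangeEquiv R).symm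
  exact ⟨Φ.toAddEquiv, fun c v => map_smul Φ c v⟩

/-- The conditions make the base change projective, so maps lift. -/
theorem exists_lift {B : Type u} [CommRing B] [Algebra A B] (h : IdealCond Q r (algebraMap A B))
    (M M' : Type u) [AddCommGroup M] [Module A M] [Module B M] [IsScalarTower A B M]
    [AddCommGroup M'] [Module A M'] [Module B M'] [IsScalarTower A B M'] (φ : M →ₗ[B] M')
    (hφ : Function.Surjective φ) (ψ : Q →ₗ[A] M') :
    ∃ ψ' : Q →ₗ[A] M, (φ.restrictScalars A) ∘ₗ ψ' = ψ := by
  haveI : Module.Projective B (B ⊗[A] Q) := Module.projective_of_localization_maximal fun I hI => by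
    have hc : IdealCond Q r (algebraMap A (Localization.AtPrime I)) := by
      rw [IsScalarTower.algebraMap_eq A B (Localization.AtPrime I)]
      exact h.comp _
    obtain ⟨b⟩ := exists_basis_of_idealCond hc
    haveI := Module.Free.of_basis b
    haveI : Module.Free (Localization.AtPrime I) (LocalizedModule.AtPrime I (B ⊗[A] Q)) :=
      Module.Free.of_equiv ((TensorProduct.AlgebraTensorModule.cancelBaseChange A B (Localization.AtPrime I)
        (Localization.AtPrime I) Q).symm.trans
          (LocalizedModule.equivTensorProduct I.primeCompl (B ⊗[A] Q)).symm)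
    infer_instance
  obtain ⟨l, hl⟩ := Module.projective_lifting_property φ (LinearMap.liftBaseChange B ψ) hφ
  refine ⟨(LinearMap.liftBaseChangeEquiv B).symm l, LinearMap.ext fun q => ?_⟩
  have := LinearMap.congr_fun hl (1 ⊗ₜ q)
  rw [LinearMap.liftBaseChange_tmul, one_smul] at this
  simpa using this

theorem no_relations_of_homRank {R₀ : Type u} [CommRing R₀] [IsLocalRing R₀] {M : Type u} [AddCommGroup M]
    [Module R₀ M] {n : ℕ} (x : Fin n → M) (hx : Submodule.span R₀ (Set.range x) = ⊤)
    (hfg : (LinearMap.ker (Fintype.linearCombination R₀ x)).FG)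
    (hfree : ∀ J : Ideal R₀, J ≤ IsLocalRing.maximalIdeal R₀ →
      ∃ Φ : (Fin n → R₀ ⧸ J) ≃+ (M →ₗ[R₀] R₀ ⧸ J), ∀ (b : R₀ ⧸ J) v, Φ (b • v) = b • Φ v) :
    LinearMap.ker (Fintype.linearCombination R₀ x) = ⊥ := by
  classical
  let L := LinearMap.ker (Fintype.linearCombination R₀ x)
  let m := IsLocalRing.maximalIdeal R₀
  let I : Ideal R₀ := ⨆ i, L.map (LinearMap.proj i)
  have hI : ∀ l ∈ L, ∀ i, l i ∈ I := fun l hl i => Submodule.mem_iSup_of_mem i ⟨l, hl, rfl⟩
  have hIfg : I.FG := Submodule.fg_iSup _ fun i => hfg.map _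
  by_contra hne
  have hI0 : I ≠ ⊥ := fun h0 => hne <| eq_bot_iff.2 fun l hl => funext fun i => by
    have := hI l hl i
    rwa [h0, Submodule.mem_bot] at this
  have hmI : m * I ≤ m := Ideal.mul_le_left
  let J := m * I
  haveI : Nontrivial (R₀ ⧸ J) := Ideal.Quotient.nontrivial_iff.2 fun h => (IsLocalRing.maximalIdeal.isMaximal R₀).ne_top
    (top_le_iff.1 (h ▸ hmI))
  haveI : IsLocalRing (R₀ ⧸ J) := IsLocalRing.of_surjective' _ Ideal.Quotient.mk_surjective
  obtain ⟨Φ, hΦ⟩ := hfree J hmI
  let G : (Fin n → R₀ ⧸ J) → (Fin n → R₀ ⧸ J) := fun v i => Φ v (x i)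
  have hG : Function.Injective G := fun v v' hv => Φ.injective (LinearMap.ext_on_range hx fun i => congrFun hv i)
  have hGs : ∀ (b : R₀ ⧸ J) v, G (b • v) = b • G v := fun b v => funext fun i => by simp [G, hΦ]
  -- a nonzero element killed by the maximal ideal
  obtain ⟨e₀, he₀, he₀J⟩ : ∃ e₀ ∈ I, e₀ ∉ J := by
    by_contra hc
    push Not at hc
    exact hI0 (Submodule.eq_bot_of_le_smul_of_le_jacobson_bot m I hIfg (by rw [Ideal.smul_eq_mul]; exact hc)
      (IsLocalRing.maximalIdeal_le_jacobson _))
  let e := Ideal.Quotient.mk J e₀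
  have hkill : ∀ t : R₀, t ∈ m → ∀ i ∈ I, Ideal.Quotient.mk J t * Ideal.Quotient.mk J i = 0 := fun t ht i hi => by
    rw [← map_mul, Ideal.Quotient.eq_zero_iff_mem]
    exact Ideal.mul_mem_mul ht hi
  -- vectors in the maximal ideal are values
  have hval : ∀ w : Fin n → R₀, (∀ l ∈ L, ∑ i, Ideal.Quotient.mk J (l i * w i) = 0) →
      ∃ v, G v = fun i => Ideal.Quotient.mk J (w i) := fun w hw => by
    have hsurj : Function.Surjective (Fintype.linearCombination R₀ x) :=
      LinearMap.range_eq_top.1 (by rw [Fintype.range_linearCombination, hx])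
    let π : (Fin n → R₀) →ₗ[R₀] R₀ ⧸ J := Fintype.linearCombination R₀ fun i => Ideal.Quotient.mk J (w i)
    have hπ : L ≤ LinearMap.ker π := fun l hl => by
      rw [LinearMap.mem_ker, ← hw l hl]
      simp [π, Fintype.linearCombination_apply, Algebra.smul_def]
    let ψ : M →ₗ[R₀] R₀ ⧸ J :=
      (L.liftQ π hπ) ∘ₗ ((Fintype.linearCombination R₀ x).quotKerEquivOfSurjective hsurj).symm.toLinearMap
    have hψ : ∀ c, ψ (Fintype.linearCombination R₀ x c) = π c := fun c => by
      show L.liftQ π hπ (((Fintype.linearCombination R₀ x).quotKerEquivOfSurjective hsurj).symm _) = _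
      rw [(LinearEquiv.symm_apply_eq _).2 (LinearMap.quotKerEquivOfSurjective_apply_mk _ hsurj c).symm]
      rfl
    refine ⟨Φ.symm ψ, funext fun i => ?_⟩
    show Φ (Φ.symm ψ) (x i) = _
    have := hψ (Pi.single i 1)
    rw [Fintype.linearCombination_apply_single, one_smul] at this
    rw [AddEquiv.apply_symm_apply, this]
    simp [π, Fintype.linearCombination_apply_single]
  -- the reduction of `G` is injective
  have hred : ∀ v, (∀ i, G v i ∈ IsLocalRing.maximalIdeal (R₀ ⧸ J)) → ∀ i, v i ∈ IsLocalRing.maximalIdeal (R₀ ⧸ J) := by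
    intro v hv i
    by_contra hi
    have h0 : G (e • v) = 0 := by
      rw [hGs]
      funext j
      obtain ⟨t, ht⟩ := Ideal.Quotient.mk_surjective (G v j)
      have htm : t ∈ m := fun hu => hv j (by rw [← ht]; exact hu.map _)
      show e * G v j = 0
      rw [mul_comm, ← ht]
      exact hkill t htm e₀ he₀
    have h1 := hG (h0.trans (by
      have : G 0 = 0 := funext fun i => by simp [G]
      exact this.symm))
    have h2 : e * v i = 0 := congrFun h1 i
    rw [(not_not.1 hi : IsUnit (v i)).mul_left_eq_zero] at h2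
    exact he₀J (Ideal.Quotient.eq_zero_iff_mem.1 h2)
  -- hence `G` is onto
  let G' : (Fin n → R₀ ⧸ J) →ₗ[R₀ ⧸ J] (Fin n → R₀ ⧸ J) :=
    { toFun := G, map_add' := fun v v' => funext fun i => by simp [G], map_smul' := hGs }
  have hsurjG : ∀ w, ∃ v, G v = w := by
    let k := IsLocalRing.ResidueField (R₀ ⧸ J)
    let μ : (Fin n → k) →ₗ[k] (Fin n → k) := Matrix.mulVecLin ((LinearMap.toMatrix' G').map (IsLocalRing.residue _))
    have hμ : ∀ v : Fin n → R₀ ⧸ J, μ (fun i => IsLocalRing.residue _ (v i)) = fun i => IsLocalRing.residue _ (G v i) :=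
      fun v => funext fun i => by
        show ((LinearMap.toMatrix' G').map (IsLocalRing.residue _)).mulVec (IsLocalRing.residue _ ∘ v) i = _
        rw [← RingHom.map_mulVec, LinearMap.toMatrix'_mulVec]
        rfl
    have hinj : Function.Injective μ := by
      rw [injective_iff_map_eq_zero]
      intro z hz
      choose v hv using fun i => IsLocalRing.residue_surjective (z i)
      have hzv : z = fun i => IsLocalRing.residue _ (v i) := funext fun i => (hv i).symm
      rw [hzv, hμ] at hz
      rw [hzv]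
      funext i
      exact (IsLocalRing.residue_eq_zero_iff _).2
        (hred v (fun j => (IsLocalRing.residue_eq_zero_iff _).1 (congrFun hz j)) i)
    have hbij := LinearMap.injective_iff_surjective.1 hinj
    intro w
    have htop : (⊤ : Submodule (R₀ ⧸ J) (Fin n → R₀ ⧸ J)) ≤ LinearMap.range G' := by
      refine Submodule.le_of_le_smul_of_le_jacobson_bot (Module.Finite.fg_top)
        (IsLocalRing.maximalIdeal_le_jacobson _) fun y _ => ?_
      obtain ⟨z, hz⟩ := hbij (fun i => IsLocalRing.residue _ (y i))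
      choose v hv using fun i => IsLocalRing.residue_surjective (z i)
      rw [show z = fun i => IsLocalRing.residue _ (v i) from funext fun i => (hv i).symm, hμ] at hz
      rw [show y = G' v + (y - G' v) by abel]
      refine Submodule.add_mem_sup (LinearMap.mem_range_self _ v) ?_
      rw [pi_eq_sum_univ (y - G' v)]
      refine Submodule.sum_mem _ fun i _ => Submodule.smul_mem_smul ?_ trivial
      show y i - G v i ∈ _
      rw [← IsLocalRing.residue_eq_zero_iff, map_sub, ← congrFun hz i, sub_self]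
    exact htop (x := w) trivial
  -- so every relation dies
  refine hI0 ?_
  have hle : I ≤ J := iSup_le fun i => by
    rintro _ ⟨l, hl, rfl⟩
    obtain ⟨v, hv⟩ := hsurjG (Pi.single i 1)
    have h0 : Φ v (Fintype.linearCombination R₀ x l) = 0 := by
      rw [LinearMap.mem_ker.1 hl, map_zero]
    rw [Fintype.linearCombination_apply, map_sum] at h0
    simp only [map_smul, show ∀ j, Φ v (x j) = (Pi.single i 1 : Fin n → R₀ ⧸ J) j from fun j => congrFun hv j] at h0
    rw [Finset.sum_eq_single i (fun j _ hj => by rw [Pi.single_eq_of_ne hj, smul_zero]) (by simp),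
      Pi.single_eq_same, Algebra.smul_def, mul_one] at h0
    exact Ideal.Quotient.eq_zero_iff_mem.1 h0
  exact Submodule.eq_bot_of_le_smul_of_le_jacobson_bot m I hIfg (by rw [Ideal.smul_eq_mul]; exact hle)
    (IsLocalRing.maximalIdeal_le_jacobson _)

/-- Freeness of maps into all local algebras gives the conditions. -/
theorem idealCond_of_homRank {B : Type u} [CommRing B] {ρ : A →+* B}
    (h : ∀ (R : Type u) [CommRing R] [IsLocalRing R] (φ : B →+* R), HomRank Q r (φ.comp ρ)) :
    IdealCond Q r ρ := by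
  letI := ρ.toAlgebra
  have hfield : ∀ (p : Ideal B) [p.IsPrime], Module.finrank p.ResidueField (p.ResidueField ⊗[B] (B ⊗[A] Q)) = r := by
    intro p _
    rw [((TensorProduct.AlgebraTensorModule.cancelBaseChange A B p.ResidueField p.ResidueField Q)).finrank_eq,
      ← finrank_hom]
    obtain ⟨Φ, hΦ⟩ := (h p.ResidueField (algebraMap B p.ResidueField)).exists_equiv
      (IsScalarTower.algebraMap_eq A B p.ResidueField).symm
    let Φ' : (Fin r → p.ResidueField) ≃ₗ[p.ResidueField] (Q →ₗ[A] p.ResidueField) :=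
      { Φ with map_smul' := hΦ }
    rw [← Φ'.finrank_eq, Module.finrank_fin_fun]
  have htop : Fitt.ideal B (B ⊗[A] Q) r = ⊤ := by
    by_contra hne
    obtain ⟨p, hp, hle⟩ := Ideal.exists_le_maximal _ hne
    exact (H29Fitt.not_le_prime_iff_finrank_le r p).2 (hfield p).le hle
  refine ⟨by show (Fitt.ideal A Q r).map (algebraMap A B) = ⊤; rw [← H29Fitt.ideal_baseChange]; exact htop, fun k hk => ?_⟩
  show (Fitt.ideal A Q k).map (algebraMap A B) = ⊥
  rw [← H29Fitt.ideal_baseChange]
  refine eq_bot_iff.2 fun a ha => ?_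
  refine Module.eq_zero_of_localization_maximal (fun P _ => Localization.AtPrime P)
    (fun P _ => Algebra.linearMap B (Localization.AtPrime P)) a fun P hP => ?_
  let R₀ := Localization.AtPrime P
  have hmap : (Fitt.ideal B (B ⊗[A] Q) k).map (algebraMap B R₀) = ⊥ := by
    have h1 : Fitt.ideal R₀ (R₀ ⊗[B] (B ⊗[A] Q)) r = ⊤ := by
      rw [H29Fitt.ideal_baseChange, htop, Ideal.map_top]
    obtain ⟨f, hf, m, hm⟩ := H29Fitt.exists_spansUpTo_powers (M := R₀ ⊗[B] (B ⊗[A] Q)) (k := r)
      (p := IsLocalRing.maximalIdeal R₀)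
      (by rw [h1]; exact fun hle => (IsLocalRing.maximalIdeal.isMaximal R₀).ne_top (top_le_iff.1 hle))
    have hu : IsUnit f := not_not.1 hf
    have hspan : Submodule.span R₀ (Set.range m) = ⊤ := top_le_iff.1 fun y _ => by
      obtain ⟨_, ⟨n, rfl⟩, hy⟩ := hm y
      rwa [Submodule.smul_mem_iff_of_isUnit _ (hu.pow n)] at hy
    have hker := no_relations_of_homRank m hspan (Module.FinitePresentation.fg_ker _
      (LinearMap.range_eq_top.1 (by rw [Fintype.range_linearCombination, hspan]))) fun J hJ => ?_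
    · rw [← H29Fitt.ideal_baseChange]
      exact H29Fitt.ideal_eq_bot_of_independent m hspan (fun c hc => by
        have hc' : c ∈ LinearMap.ker (Fintype.linearCombination R₀ m) := by
          simpa [Fintype.linearCombination_apply] using hc
        rwa [hker, Submodule.mem_bot] at hc') hk
    · haveI : Nontrivial (R₀ ⧸ J) := Ideal.Quotient.nontrivial_iff.2 fun h =>
        (IsLocalRing.maximalIdeal.isMaximal R₀).ne_top (top_le_iff.1 (h ▸ hJ))
      haveI : IsLocalRing (R₀ ⧸ J) := IsLocalRing.of_surjective' _ Ideal.Quotient.mk_surjective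
      obtain ⟨Φ, hΦ⟩ := (h (R₀ ⧸ J) ((Ideal.Quotient.mk J).comp (algebraMap B R₀))).exists_equiv
        (RingHom.ext fun a => congrArg (Ideal.Quotient.mk J) (IsScalarTower.algebraMap_apply A B R₀ a).symm)
      let E : (Q →ₗ[A] R₀ ⧸ J) ≃ₗ[R₀] (R₀ ⊗[B] (B ⊗[A] Q) →ₗ[R₀] R₀ ⧸ J) :=
        (LinearMap.liftBaseChangeEquiv R₀).trans (LinearEquiv.congrLeft (R₀ ⧸ J) R₀
          (TensorProduct.AlgebraTensorModule.cancelBaseChange A B R₀ R₀ Q).symm)
      refine ⟨Φ.trans E.toAddEquiv, fun b v => ?_⟩
      obtain ⟨c, rfl⟩ := Ideal.Quotient.mk_surjective b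
      show E (Φ (Ideal.Quotient.mk J c • v)) = Ideal.Quotient.mk J c • E (Φ v)
      rw [hΦ]
      exact map_smul E c (Φ v)
  have := hmap.le (Ideal.mem_map_of_mem _ ha)
  simpa using this

end Groth.Agent.LeadStrat
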