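import Groth.Agent.LeadStrat.Alg
import Groth.Agent.H12Pic.SeesawScheme
import Groth.Agent.LeadBC.GenBC.ZeroApply
import Groth.Agent.LeadBC.SeesawBC
import Groth.Agent.H16Derived.KFlat.FinLocFree
import Groth.Agent.H23Para.Local
import Groth.Agent.H29Fitt.FreeLocal

/-!
# The rank condition on charts
-/

set_option autoImplicit false
set_option linter.style.haveILetI false
set_option linter.unusedSectionVars false

noncomputable section

universe u

open CategoryTheory CategoryTheory.Limits AlgebraicGeometry Opposite TopologicalSpace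

namespace Groth.Agent.LeadStrat

open Groth.Agent.H10Coh Groth.Agent.LeadBC.GenBC Groth.Agent.H12Pic

attribute [local instance 10000] H10Coh.hasSheafifyAb H10Coh.hasWeakSheafifyAb H10Coh.hasExtAb H10Coh.enoughInjAb

/-- An isomorphism with a free module on sections. -/
theorem exists_sect_equiv {Y : Scheme.{u}} {M : Y.Modules} {n : ℕ} (e : M ≅ FlatMod.freeMod Y n) (W : Y.Opens) :
    Nonempty ((Fin n → Γ(Y, W)) ≃ₗ[Γ(Y, W)] Γ(M, W)) := by
  let b : Module.Basis (Fin n) Γ(Y, W) Γ(FlatMod.freeMod Y n, W) :=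
    Module.Basis.mk (v := fun j => H29Fitt.gen Y n j W)
      (Fintype.linearIndependent_iff.2 fun c hc i => congrFun (H29Fitt.gen_independent n W c hc) i)
      (H29Fitt.gen_span n W).ge
  let φ : Γ(FlatMod.freeMod Y n, W) →ₗ[Γ(Y, W)] Γ(M, W) :=
    { toFun := e.inv.app W
      map_add' := map_add _
      map_smul' := fun a x => e.inv.app_smul a x }
  exact ⟨b.equivFun.symm.trans (LinearEquiv.ofBijective φ (ConcreteCategory.bijective_of_isIso (e.inv.app W)))⟩

/-- A module free near the image of the closed point pulls back to a free module. -/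
theorem exists_pull_free {T : Scheme.{u}} {R : Type u} [CommRing R] [IsLocalRing R]
    (v : Spec (CommRingCat.of R) ⟶ T) {M : T.Modules} {n : ℕ}
    (hM : ∃ U : T.Opens, v (IsLocalRing.closedPoint R) ∈ U ∧ Nonempty (M.restrict U.ι ≅ FlatMod.freeMod U n)) :
    Nonempty ((Scheme.Modules.pullback v).obj M ≅ FlatMod.freeMod (Spec (CommRingCat.of R)) n) := by
  obtain ⟨U, hU, ⟨e⟩⟩ := hM
  have htop : v ⁻¹ᵁ U = ⊤ := H23Para.eq_top_of_closedPoint_mem hU
  have hrange : Set.range v ⊆ Set.range U.ι := by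
    rw [Scheme.Opens.range_ι]
    rintro _ ⟨z, rfl⟩
    exact htop.ge (Set.mem_univ z : z ∈ (⊤ : (Spec (CommRingCat.of R)).Opens))
  let w := IsOpenImmersion.lift U.ι v hrange
  exact ⟨(Scheme.Modules.pullbackCongr (IsOpenImmersion.lift_fac U.ι v hrange).symm).app M ≪≫
    ((Scheme.Modules.pullbackComp w U.ι).app M).symm ≪≫
      (Scheme.Modules.pullback w).mapIso (((Scheme.Modules.restrictFunctorIsoPullback U.ι).app M).symm ≪≫ e) ≪≫
        H16Derived.KFlat.Stalk.freeModPullbackIso w n⟩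

variable {X S : Scheme.{u}} (f : X ⟶ S)

/-- The direct image has rank `r` and commutes with base change. -/
def Cond (F : X.Modules) (r : ℕ) {T XT : Scheme.{u}} (fT : XT ⟶ T) (gT : XT ⟶ X) : Prop :=
  FlatMod.IsFinLocFreeOfRank r
      ((Scheme.Modules.pushforward fT).obj ((Scheme.Modules.pullback gT).obj F)) ∧
    ∀ ⦃X'' T' : Scheme.{u}⦄ (v' : X'' ⟶ XT) (f'' : X'' ⟶ T') (u' : T' ⟶ T)
      (h : IsPullback v' f'' fT u'),
      IsIso (CohBC.bc0 fT u' f'' v' h.w ((Scheme.Modules.pullback gT).obj F))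

/-- Sections over a local scheme over the base are free of rank `r`. -/
def SecRank (F : X.Modules) (r : ℕ) {T' : Scheme.{u}} (t : T' ⟶ S) : Prop :=
  ∃ Φ : (Fin r → Γ(T', ⊤)) ≃+ Γ((Scheme.Modules.pushforward (pullback.snd f t)).obj
      ((Scheme.Modules.pullback (pullback.fst f t)).obj F), ⊤),
    ∀ (b : Γ(T', ⊤)) (x : Fin r → Γ(T', ⊤)), Φ (b • x) = b • Φ x

variable {V : S.Opens} {hV : IsAffineOpen V} {F : X.Modules} {Q : ModuleCat.{u} Γ(S, V)} {r : ℕ}

/-- Sections over an affine scheme over the chart are maps out of the chart module. -/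
theorem exists_secEquiv' (hQ : IsChartHom f F hV Q) {X' T' : Scheme.{u}} [IsAffine T'] {g : T' ⟶ S}
    {g' : X' ⟶ X} {f' : X' ⟶ T'} (h : IsPullback g' f' f g) (hle : (⊤ : T'.Opens) ≤ g ⁻¹ᵁ V) :
    letI := (g.appLE V ⊤ hle).hom.toAlgebra
    ∃ E : (Q →ₗ[Γ(S, V)] Γ(T', ⊤)) ≃+
        Γ((Scheme.Modules.pushforward f').obj ((Scheme.Modules.pullback g').obj F), ⊤),
      ∀ (b : Γ(T', ⊤)) (x : Q →ₗ[Γ(S, V)] Γ(T', ⊤)), E (b • x) = b • E x :=
  (hQ.2 h (isAffineOpen_top T') hle).1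

theorem secRank_iff (hQ : IsChartHom f F hV Q) {T' : Scheme.{u}} [IsAffine T'] (t : T' ⟶ S)
    (hle : (⊤ : T'.Opens) ≤ t ⁻¹ᵁ V) : SecRank f F r t ↔ HomRank Q r (t.appLE V ⊤ hle).hom := by
  letI := (t.appLE V ⊤ hle).hom.toAlgebra
  obtain ⟨E, hE⟩ := exists_secEquiv' f hQ (IsPullback.of_hasPullback f t) hle
  constructor
  · rintro ⟨Φ, hΦ⟩
    refine ⟨Φ.trans E.symm, fun b x => ?_⟩
    show E.symm (Φ (b • x)) = b • E.symm (Φ x)
    rw [E.symm_apply_eq, hΦ, hE, E.apply_symm_apply]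
  · rintro ⟨Φ, hΦ⟩
    refine ⟨Φ.trans E, fun b x => ?_⟩
    show E (Φ (b • x)) = b • E (Φ x)
    rw [hΦ, hE]

theorem ΓSpec_isLocalRing (R : Type u) [CommRing R] [IsLocalRing R] :
    IsLocalRing Γ(Spec (CommRingCat.of R), ⊤) :=
  (Scheme.ΓSpecIso (CommRingCat.of R)).symm.commRingCatIsoToRingEquiv.isLocalRing

/-- Conditions on an affine pair are freeness of sections at all of its local points. -/
theorem idealCond_iff_secRank (hQ : IsChartHom f F hV Q) {T : Scheme.{u}} (u : T ⟶ S) {W : T.Opens}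
    (hW : IsAffineOpen W) (hle : W ≤ u ⁻¹ᵁ V) :
    IdealCond Q r (u.appLE V W hle).hom ↔
      ∀ (R : Type u) [CommRing R] [IsLocalRing R] (v : Spec (CommRingCat.of R) ⟶ T),
        (⊤ : (Spec (CommRingCat.of R)).Opens) ≤ v ⁻¹ᵁ W → SecRank f F r (v ≫ u) := by
  haveI := hQ.1
  constructor
  · intro h R _ _ v hv
    haveI := ΓSpec_isLocalRing R
    rw [secRank_iff f hQ (v ≫ u) (hv.trans (v.preimage_mono hle)), ← Scheme.Hom.appLE_comp_appLE _ _ V W ⊤ hle hv,
      CommRingCat.hom_comp]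
    exact homRank_of_idealCond (h.comp _)
  · intro h
    refine idealCond_of_homRank fun R _ _ φ => ?_
    let v := Spec.map (CommRingCat.ofHom φ) ≫ hW.fromSpec
    have hv : (⊤ : (Spec (CommRingCat.of R)).Opens) ≤ v ⁻¹ᵁ W := fun z _ => hW.range_fromSpec.le ⟨_, rfl⟩
    have h1 := h R v hv
    rw [secRank_iff f hQ (v ≫ u) (hv.trans (v.preimage_mono hle)), ← Scheme.Hom.appLE_comp_appLE _ _ V W ⊤ hle hv,
      appLE_SpecMap_fromSpec hW (CommRingCat.ofHom φ) hv] at h1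
    have h2 := h1.transfer (Scheme.ΓSpecIso (CommRingCat.of R)).commRingCatIsoToRingEquiv
    refine Eq.mp (congrArg _ (RingHom.ext fun a => ?_)) h2
    exact congr($((Scheme.ΓSpecIso (CommRingCat.of R)).inv_hom_id) (φ (u.appLE V W hle a)))

/-- Under the base change condition, sections at a local point are free of the local rank. -/
theorem homRank_of_bc {T XT : Scheme.{u}} (u : T ⟶ S) {fT : XT ⟶ T} {gT : XT ⟶ X}
    (hT : IsPullback gT fT f u) (hQ : IsChartHom f F hV Q)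
    (hbc : ∀ ⦃X'' T' : Scheme.{u}⦄ (v' : X'' ⟶ XT) (f'' : X'' ⟶ T') (u' : T' ⟶ T)
      (h : IsPullback v' f'' fT u'),
      IsIso (CohBC.bc0 fT u' f'' v' h.w ((Scheme.Modules.pullback gT).obj F)))
    {R : Type u} [CommRing R] [IsLocalRing R] (v : Spec (CommRingCat.of R) ⟶ T)
    (hle : (⊤ : (Spec (CommRingCat.of R)).Opens) ≤ (v ≫ u) ⁻¹ᵁ V) {n : ℕ}
    (hfree : ∃ U : T.Opens, v (IsLocalRing.closedPoint R) ∈ U ∧ Nonempty (((Scheme.Modules.pushforward
      fT).obj ((Scheme.Modules.pullback gT).obj F)).restrict U.ι ≅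
        FlatMod.freeMod U n)) :
    HomRank Q n ((v ≫ u).appLE V ⊤ hle).hom := by
  have h := IsPullback.of_hasPullback fT v
  obtain ⟨e⟩ := exists_pull_free v hfree
  haveI := hbc _ _ v h
  let e' : (Scheme.Modules.pushforward (pullback.snd fT v)).obj
      ((Scheme.Modules.pullback (pullback.fst fT v ≫ gT)).obj F) ≅
        FlatMod.freeMod (Spec (CommRingCat.of R)) n :=
    (Scheme.Modules.pushforward _).mapIso ((Scheme.Modules.pullbackComp _ _).app F).symm ≪≫
      (asIso (CohBC.bc0 fT v (pullback.snd fT v) (pullback.fst fT v)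
        h.w ((Scheme.Modules.pullback gT).obj F))).symm ≪≫ e
  obtain ⟨L⟩ := exists_sect_equiv e' ⊤
  letI := ((v ≫ u).appLE V ⊤ hle).hom.toAlgebra
  obtain ⟨E, hE⟩ := exists_secEquiv' f hQ (h.paste_horiz hT) hle
  refine ⟨L.toAddEquiv.trans E.symm, fun b x => ?_⟩
  show E.symm (L (b • x)) = b • E.symm (L x)
  rw [E.symm_apply_eq, hE, E.apply_symm_apply, map_smul]

/-- The local rank is the rank of the conditions. -/
theorem rank_eq (hQ : IsChartHom f F hV Q) {T XT : Scheme.{u}} {u : T ⟶ S} {fT : XT ⟶ T} {gT : XT ⟶ X}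
    (hT : IsPullback gT fT f u) {W : T.Opens} (hW : IsAffineOpen W)
    (hle : W ≤ u ⁻¹ᵁ V) (hc : IdealCond Q r (u.appLE V W hle).hom)
    (hbc : ∀ ⦃X'' T' : Scheme.{u}⦄ (v' : X'' ⟶ XT) (f'' : X'' ⟶ T') (u' : T' ⟶ T)
      (h : IsPullback v' f'' fT u'),
      IsIso (CohBC.bc0 fT u' f'' v' h.w ((Scheme.Modules.pullback gT).obj F)))
    {K : Type u} [Field K] (v : Spec (CommRingCat.of K) ⟶ T)
    (hv : (⊤ : (Spec (CommRingCat.of K)).Opens) ≤ v ⁻¹ᵁ W) {n : ℕ}
    (hfree : ∃ U : T.Opens, v (IsLocalRing.closedPoint K) ∈ U ∧ Nonempty (((Scheme.Modules.pushforward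
      fT).obj ((Scheme.Modules.pullback gT).obj F)).restrict U.ι ≅
        FlatMod.freeMod U n)) : n = r := by
  haveI := hQ.1
  have hle' : (⊤ : (Spec (CommRingCat.of K)).Opens) ≤ (v ≫ u) ⁻¹ᵁ V := hv.trans (v.preimage_mono hle)
  have h1 := homRank_of_bc f u hT hQ hbc v hle' hfree
  letI : Field Γ(Spec (CommRingCat.of K), ⊤) := (MulEquiv.isField (Field.toIsField K)
    (Scheme.ΓSpecIso (CommRingCat.of K)).commRingCatIsoToRingEquiv.toMulEquiv).toField
  letI := ((v ≫ u).appLE V ⊤ hle').hom.toAlgebra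
  have h2 : IdealCond Q r (algebraMap Γ(S, V) Γ(Spec (CommRingCat.of K), ⊤)) := by
    show IdealCond Q r ((v ≫ u).appLE V ⊤ hle').hom
    rw [← Scheme.Hom.appLE_comp_appLE _ _ V W ⊤ hle hv, CommRingCat.hom_comp]
    exact hc.comp _
  obtain ⟨Φ, hΦ⟩ := h1.exists_equiv rfl
  have h3 := (LinearEquiv.finrank_eq
    ({ Φ with map_smul' := hΦ } : (Fin n → Γ(Spec (CommRingCat.of K), ⊤)) ≃ₗ[Γ(Spec (CommRingCat.of K), ⊤)] _))
  rwa [Module.finrank_fin_fun, (idealCond_field_iff).1 h2] at h3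

variable [IsProper f] [LocallyOfFinitePresentation f] [F.IsQuasicoherent] (hfp : CohB1.IsFP F)
  (hfl : FlatMod.IsFlatOver f F)

include hfp hfl in
theorem exists_isChartHom {V : S.Opens} (hV : IsAffineOpen V) : ∃ Q, IsChartHom f F hV Q :=
  exists_chartHom f F hfp hfl hV

/-- The rank condition gives the conditions on every chart. -/
theorem idealCond_of_cond (hQ : IsChartHom f F hV Q) {T XT : Scheme.{u}} {u : T ⟶ S}
    {fT : XT ⟶ T} {gT : XT ⟶ X} (hT : IsPullback gT fT f u) (hc : Cond F r fT gT)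
    {W : T.Opens} (hW : IsAffineOpen W) (hle : W ≤ u ⁻¹ᵁ V) : IdealCond Q r (u.appLE V W hle).hom := by
  refine (idealCond_iff_secRank f hQ u hW hle).2 fun R _ _ v hv => ?_
  have hle' : (⊤ : (Spec (CommRingCat.of R)).Opens) ≤ (v ≫ u) ⁻¹ᵁ V := hv.trans (v.preimage_mono hle)
  exact (secRank_iff f hQ _ hle').2 (homRank_of_bc f u hT hQ hc.2 v hle' (hc.1 _))

include hfp hfl in
/-- The conditions on charts around every point give the rank condition. -/
theorem cond_of_idealCond {T XT : Scheme.{u}} {u : T ⟶ S} {fT : XT ⟶ T} {gT : XT ⟶ X} (hT : IsPullback gT fT f u)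
    (hall : ∀ t : T, ∃ (V : S.Opens) (hV : IsAffineOpen V) (Q : ModuleCat.{u} Γ(S, V)) (W : T.Opens)
      (_ : IsAffineOpen W) (hle : W ≤ u ⁻¹ᵁ V),
        t ∈ W ∧ IsChartHom f F hV Q ∧ IdealCond Q r (u.appLE V W hle).hom) : Cond F r fT gT := by
  let F' := (Scheme.Modules.pullback gT).obj F
  haveI : IsProper fT := MorphismProperty.of_isPullback hT ‹IsProper f›
  haveI : LocallyOfFinitePresentation fT :=
    MorphismProperty.of_isPullback hT ‹LocallyOfFinitePresentation f›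
  haveI : F'.IsQuasicoherent := H29Fitt.isQCoh_pullback _ F ‹_›
  have hfp' : CohB1.IsFP F' := H06EGA9.isFP_pullback _ hfp
  have hfl' : FlatMod.IsFlatOver fT F' :=
    fun x => H06EGA9.isFlatOverAt_of_isPullback hT F x (hfl _)
  have hepi : ∀ t : T, ∃ (W : T.Opens) (hW : IsAffineOpen W), t ∈ W ∧ EpiOn fT F' hW 0 := by
    intro t
    obtain ⟨V, hV, Q, W, hW, hle, ht, hQ, hc⟩ := hall t
    letI := (u.appLE V W hle).hom.toAlgebra
    haveI := hQ.1
    exact ⟨W, hW, ht, (hQ.2 hT hW hle).2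
      fun M M' _ _ _ _ _ _ _ _ φ hφ ψ => exists_lift hc M M' φ hφ ψ⟩
  haveI := H10Coh.enoughInjMod (XT)
  have hbc : ∀ ⦃X'' T' : Scheme.{u}⦄ (v' : X'' ⟶ XT) (f'' : X'' ⟶ T') (u' : T' ⟶ T)
      (h : IsPullback v' f'' fT u'),
      IsIso (CohBC.bc0 fT u' f'' v' h.w F') := fun X'' T' v' f'' u' h => by
    show IsIso (((Scheme.Modules.pullbackPushforwardAdjunction u').homEquiv _ _).symm
      (CohBC.bc0Adj fT u' f'' v' h.w F'))
    rw [LeadBC.Seesaw.bc0Adj_eq fT h F']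
    exact isIso_bc_zero _ F' h hfp' hfl' fun z => hepi _
  refine ⟨fun t => ?_, hbc⟩
  obtain ⟨U, n, htU, ⟨e⟩⟩ := isFinLocFree_push _ F' hfp' hfl' hepi t
  obtain ⟨V, hV, Q, W, hW, hle, htW, hQ, hc⟩ := hall t
  haveI := hQ.1
  have hv : (⊤ : (Spec (CommRingCat.of (T.residueField t : Type u))).Opens) ≤ T.fromSpecResidueField t ⁻¹ᵁ W :=
    fun z _ => by
      show T.fromSpecResidueField t z ∈ W
      rw [Scheme.fromSpecResidueField_apply]
      exact htW
  obtain rfl := rank_eq f hQ hT hW hle hc hbc (K := (T.residueField t : Type u)) (T.fromSpecResidueField t) hv (n := n)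
    ⟨U, by erw [Scheme.fromSpecResidueField_apply]; exact htU, ⟨e⟩⟩
  exact ⟨U, htU, ⟨e⟩⟩

end Groth.Agent.LeadStrat
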