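import Groth.Agent.LeadStrat.Chart
import Groth.Agent.H29Fitt.Rank
import Groth.Agent.H29Blow.PointsOfAffine
import Groth.Agent.H10Coh.Pn.Results
import Groth.Agent.H7Lim.IdealSystem
import Groth.Prelude.Def_ega3

/-!
# The stratum where the direct image has rank `r` and commutes with base change
-/

set_option autoImplicit false
set_option linter.style.haveILetI false
set_option linter.unusedSectionVars false

noncomputable section

universe u

open CategoryTheory CategoryTheory.Limits AlgebraicGeometry Opposite TopologicalSpace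

namespace Groth.Agent.LeadStrat

open Groth.Agent.H10Coh Groth.Agent.LeadBC.GenBC Groth.Agent.H12Pic

attribute [local instance 10000] H10Coh.hasSheafifyAb H10Coh.hasWeakSheafifyAb H10Coh.hasExtAb H10Coh.enoughInjAb

theorem basicOpen_iff_not_mem_prime {T : Scheme.{u}} {W : T.Opens} (hW : IsAffineOpen W) {t : T} (ht : t ∈ W)
    (b : Γ(T, W)) : t ∈ T.basicOpen b ↔ b ∉ (hW.primeIdealOf ⟨t, ht⟩).asIdeal := by
  rw [H29Blow.mem_primeIdealOf_iff hW ⟨t, ht⟩ b, not_not, T.mem_basicOpen b t ht]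

theorem isField_Γ (K : Type u) [Field K] : IsField Γ(Spec (CommRingCat.of K), ⊤) :=
  MulEquiv.isField (Field.toIsField K) (Scheme.ΓSpecIso (CommRingCat.of K)).commRingCatIsoToRingEquiv.toMulEquiv

theorem le_fromSpecResidueField {S : Scheme.{u}} {V : S.Opens} {s : S} (hs : s ∈ V) :
    (⊤ : (Spec (S.residueField s)).Opens) ≤ S.fromSpecResidueField s ⁻¹ᵁ V := fun z _ => by
  show S.fromSpecResidueField s z ∈ V
  rw [Scheme.fromSpecResidueField_apply]
  exact hs

/-- A function is nonzero at a point exactly on its basic open. -/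
theorem appLE_ne_zero_iff {S : Scheme.{u}} {V : S.Opens} {s : S} (hs : s ∈ V) (a : Γ(S, V)) :
    (S.fromSpecResidueField s).appLE V ⊤ (le_fromSpecResidueField hs) a ≠ 0 ↔ s ∈ S.basicOpen a := by
  haveI : Nonempty (Spec (S.residueField s)) := inferInstanceAs (Nonempty (PrimeSpectrum (S.residueField s)))
  let z : Spec (S.residueField s) := Classical.arbitrary _
  have hb := Scheme.basicOpen_appLE (S.fromSpecResidueField s) (⊤ : (Spec (S.residueField s)).Opens) V
    (le_fromSpecResidueField hs) a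
  constructor
  · intro h
    have hz : z ∈ (Spec (S.residueField s)).basicOpen
        ((S.fromSpecResidueField s).appLE V ⊤ (le_fromSpecResidueField hs) a) := by
      rw [Scheme.basicOpen_of_isUnit _ (by
        obtain ⟨c, hc⟩ := (isField_Γ (S.residueField s : Type u)).mul_inv_cancel h
        exact IsUnit.of_mul_eq_one c hc)]
      trivial
    rw [hb] at hz
    have : S.fromSpecResidueField s z ∈ S.basicOpen a := hz.2
    rwa [Scheme.fromSpecResidueField_apply] at this
  · intro h h0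
    have hz : z ∈ (⊤ : (Spec (S.residueField s)).Opens) ⊓ S.fromSpecResidueField s ⁻¹ᵁ S.basicOpen a :=
      ⟨trivial, by show S.fromSpecResidueField s z ∈ S.basicOpen a; rw [Scheme.fromSpecResidueField_apply]; exact h⟩
    rw [← hb, h0, Scheme.basicOpen_zero] at hz
    exact hz

variable {X S : Scheme.{u}} (f : X ⟶ S) {F : X.Modules} {r : ℕ}

section chart

variable {V : S.Opens} {hV : IsAffineOpen V} {Q : ModuleCat.{u} Γ(S, V)}

/-- The fibre rank is the dimension of maps out of the chart module. -/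
theorem fiberRank_eq_finrank (hQ : IsChartHom f F hV Q) {s : S} (hs : s ∈ V) :
    letI := ((S.fromSpecResidueField s).appLE V ⊤ (le_fromSpecResidueField hs)).hom.toAlgebra
    letI := (isField_Γ (S.residueField s : Type u)).toField
    CohIII.fiberRank f F 0 s =
      Module.finrank Γ(Spec (S.residueField s), ⊤) (Q →ₗ[Γ(S, V)] Γ(Spec (S.residueField s), ⊤)) := by
  haveI := hQ.1
  letI := ((S.fromSpecResidueField s).appLE V ⊤ (le_fromSpecResidueField hs)).hom.toAlgebra
  letI : Field Γ(Spec (S.residueField s), ⊤) := (isField_Γ (S.residueField s : Type u)).toField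
  obtain ⟨E, hE⟩ := exists_secEquiv' f hQ (IsPullback.of_hasPullback f (S.fromSpecResidueField s))
    (le_fromSpecResidueField hs)
  haveI : Module.Finite Γ(Spec (S.residueField s), ⊤) (Q →ₗ[Γ(S, V)] Γ(Spec (S.residueField s), ⊤)) :=
    Module.Finite.equiv (LinearMap.liftBaseChangeEquiv _).symm
  let n := Module.finrank Γ(Spec (S.residueField s), ⊤) (Q →ₗ[Γ(S, V)] Γ(Spec (S.residueField s), ⊤))
  let L := (Module.finBasis Γ(Spec (S.residueField s), ⊤) (Q →ₗ[Γ(S, V)] Γ(Spec (S.residueField s), ⊤))).equivFun.symm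
  let σ := (Scheme.ΓSpecIso (S.residueField s)).symm.commRingCatIsoToRingEquiv
  let H := H10Coh.HH0Equiv (CohIII.fiberMod f F s)
  let ψ : (Fin n → S.residueField s) ≃ₗ[S.residueField s] CohIII.fiberH f F s 0 :=
    { (AddEquiv.piCongrRight fun _ : Fin n => σ.toAddEquiv).trans (L.toAddEquiv.trans (E.trans H.symm)) with
      map_smul' := fun c x => by
        show H.symm (E (L fun i => σ (c * x i))) = c • H.symm (E (L fun i => σ (x i)))
        rw [H.symm_apply_eq]
        refine Eq.trans ?_ (H10Coh.HH0Equiv_smul (CohIII.fiberMod f F s)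
          (algebraMap (S.residueField s) Γ(f.fiber s, ⊤) c) _).symm
        rw [H.apply_symm_apply, show (fun i => σ (c * x i)) = σ c • fun i => σ (x i) from
          funext fun i => map_mul σ c (x i), map_smul, hE]
        rfl }
  unfold CohIII.fiberRank
  exact ψ.finrank_eq.symm.trans (Module.finrank_fin_fun _)

theorem fiberRank_eq_iff (hQ : IsChartHom f F hV Q) {s : S} (hs : s ∈ V) :
    CohIII.fiberRank f F 0 s = r ↔
      IdealCond Q r ((S.fromSpecResidueField s).appLE V ⊤ (le_fromSpecResidueField hs)).hom := by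
  haveI := hQ.1
  letI := ((S.fromSpecResidueField s).appLE V ⊤ (le_fromSpecResidueField hs)).hom.toAlgebra
  letI : Field Γ(Spec (S.residueField s), ⊤) := (isField_Γ (S.residueField s : Type u)).toField
  rw [fiberRank_eq_finrank f hQ hs]
  exact idealCond_field_iff.symm

theorem fiberRank_le_iff (hQ : IsChartHom f F hV Q) {s : S} (hs : s ∈ V) :
    haveI := hQ.1
    CohIII.fiberRank f F 0 s ≤ r ↔ ∃ a ∈ Fitt.ideal Γ(S, V) Q r, s ∈ S.basicOpen a := by
  haveI := hQ.1
  letI := ((S.fromSpecResidueField s).appLE V ⊤ (le_fromSpecResidueField hs)).hom.toAlgebra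
  letI : Field Γ(Spec (S.residueField s), ⊤) := (isField_Γ (S.residueField s : Type u)).toField
  rw [fiberRank_eq_finrank f hQ hs, finrank_hom]
  have key : (Fitt.ideal Γ(S, V) Q r).map (algebraMap Γ(S, V) Γ(Spec (S.residueField s), ⊤)) ≠ ⊥ ↔
      ∃ a ∈ Fitt.ideal Γ(S, V) Q r, s ∈ S.basicOpen a := by
    rw [ne_eq, Ideal.map_eq_bot_iff_le_ker, SetLike.not_le_iff_exists]
    simp only [RingHom.mem_ker]
    exact exists_congr fun a => and_congr_right fun _ => appLE_ne_zero_iff hs a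
  rw [← key, ← H29Fitt.ideal_baseChange, H29Fitt.ideal_field]
  split_ifs with h <;> simp [h]

theorem idealCond_congr {T : Scheme.{u}} {u u' : T ⟶ S} {W : T.Opens} {hle : W ≤ u ⁻¹ᵁ V}
    (h : IdealCond Q r (u.appLE V W hle).hom) (hle' : W ≤ u' ⁻¹ᵁ V) (e : u = u') :
    IdealCond Q r (u'.appLE V W hle').hom := by
  subst e
  exact h

/-- An ideal nonzero at every point of an affine open generates the unit ideal there. -/
theorem map_eq_top_of_basicOpen {T : Scheme.{u}} (u : T ⟶ S) {W : T.Opens} (hW : IsAffineOpen W)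
    (hle : W ≤ u ⁻¹ᵁ V) (I : Ideal Γ(S, V)) :
    I.map (u.appLE V W hle).hom = ⊤ ↔ ∀ t ∈ W, ∃ a ∈ I, u t ∈ S.basicOpen a := by
  have key : ∀ (t : T) (ht : t ∈ W) (a : Γ(S, V)),
      u t ∈ S.basicOpen a ↔ u.appLE V W hle a ∉ (hW.primeIdealOf ⟨t, ht⟩).asIdeal := fun t ht a => by
    rw [← basicOpen_iff_not_mem_prime hW ht, Scheme.basicOpen_appLE]
    exact ⟨fun h => ⟨ht, h⟩, fun h => h.2⟩
  constructor
  · intro h t ht
    have hp := (hW.primeIdealOf ⟨t, ht⟩).isPrime.ne_top
    by_contra hne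
    push Not at hne
    refine hp (top_le_iff.1 (h.ge.trans (Ideal.map_le_iff_le_comap.2 fun a ha => ?_)))
    exact not_not.1 fun hn => hne a ha ((key t ht a).2 hn)
  · intro h
    by_contra hne
    obtain ⟨m, hm, hle'⟩ := Ideal.exists_le_maximal _ hne
    let t : T := hW.fromSpec ⟨m, hm.isPrime⟩
    have ht : t ∈ W := hW.range_fromSpec.le ⟨_, rfl⟩
    obtain ⟨a, ha, hta⟩ := h t ht
    refine (key t ht a).1 hta ?_
    have : hW.primeIdealOf ⟨t, ht⟩ = ⟨m, hm.isPrime⟩ :=
      hW.fromSpec.isOpenEmbedding.injective (hW.fromSpec_primeIdealOf ⟨t, ht⟩)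
    rw [this]
    exact hle' (Ideal.mem_map_of_mem _ ha)

/-- The conditions do not depend on the chart. -/
theorem idealCond_of_local (hQ : IsChartHom f F hV Q) {T : Scheme.{u}} {u : T ⟶ S}
    (hall : ∀ t : T, ∃ (V : S.Opens) (hV : IsAffineOpen V) (Q : ModuleCat.{u} Γ(S, V)) (W : T.Opens)
      (_ : IsAffineOpen W) (hle : W ≤ u ⁻¹ᵁ V),
        t ∈ W ∧ IsChartHom f F hV Q ∧ IdealCond Q r (u.appLE V W hle).hom)
    {W : T.Opens} (hW : IsAffineOpen W) (hle : W ≤ u ⁻¹ᵁ V) : IdealCond Q r (u.appLE V W hle).hom := by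
  refine (idealCond_iff_secRank f hQ u hW hle).2 fun R _ _ v _ => ?_
  obtain ⟨V₀, hV₀, Q₀, W₀, hW₀, hle₀, ht, hQ₀, hc⟩ := hall (v (IsLocalRing.closedPoint R))
  exact (idealCond_iff_secRank f hQ₀ u hW₀ hle₀).1 hc R v (H23Para.eq_top_of_closedPoint_mem ht).ge

end chart

variable [IsProper f] [LocallyOfFinitePresentation f]

variable (F r) in
/-- The stratum of rank `r`. -/
theorem exists_stratum [F.IsQuasicoherent] (hfp : CohB1.IsFP F) (hfl : FlatMod.IsFlatOver f F) :
    ∃ (Z : Scheme.{u}) (ι : Z ⟶ S), IsImmersion ι ∧ LocallyOfFinitePresentation ι ∧ QuasiCompact ι ∧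
      (∀ (T XT : Scheme.{u}) (u : T ⟶ S) (fT : XT ⟶ T) (gT : XT ⟶ X), IsPullback gT fT f u →
        ((∃ u' : T ⟶ Z, u' ≫ ι = u) ↔ Cond F r fT gT)) ∧
      Set.range ι = {s : S | CohIII.fiberRank f F 0 s = r} := by
  choose Q hQ using fun V : S.affineOpens => exists_isChartHom f hfp hfl V.2
  haveI := fun V : S.affineOpens => (hQ V).1
  let O : S.Opens := ⟨{s | CohIII.fiberRank f F 0 s ≤ r}, isOpen_iff_forall_mem_open.2 fun s hs => by
    obtain ⟨V, hV, hsV, -⟩ := exists_isAffineOpen_mem_and_subset (U := (⊤ : S.Opens)) (x := s) trivial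
    obtain ⟨a, ha, hsa⟩ := (fiberRank_le_iff f (hQ ⟨V, hV⟩) hsV).1 hs
    exact ⟨S.basicOpen a, fun x hx => (fiberRank_le_iff f (hQ ⟨V, hV⟩) (S.basicOpen_le a hx)).2 ⟨a, ha, hx⟩,
      (S.basicOpen a).isOpen, hsa⟩⟩
  have hO : ∀ (V : S.affineOpens) {s : S}, s ∈ V.1 →
      (s ∈ O ↔ ∃ a ∈ Fitt.ideal Γ(S, V) (Q V) r, s ∈ S.basicOpen a) := fun V s hs =>
    fiberRank_le_iff f (hQ V) hs
  let im : O.toScheme.affineOpens → S.affineOpens := fun W => ⟨O.ι ''ᵁ W.1, W.2.image_of_isOpenImmersion O.ι⟩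
  have him : ∀ W : O.toScheme.affineOpens, W.1 ≤ O.ι ⁻¹ᵁ (im W).1 := fun W => (O.ι.preimage_image_eq W.1).ge
  let I : ∀ W : O.toScheme.affineOpens, Ideal Γ(O, W.1) := fun W =>
    (⨆ k : Fin r, Fitt.ideal Γ(S, (im W).1) (Q (im W)) k).map (O.ι.appLE (im W).1 W.1 (him W)).hom
  have hI : ∀ {T : Scheme.{u}} (u₀ : T ⟶ O) (W : O.toScheme.affineOpens) {W' : T.Opens} (_ : IsAffineOpen W')
      (hle : W' ≤ u₀ ⁻¹ᵁ W.1),
      IdealCond (Q (im W)) r ((u₀ ≫ O.ι).appLE (im W).1 W' (hle.trans (u₀.preimage_mono (him W)))).hom ↔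
        I W ≤ RingHom.ker (u₀.appLE W.1 W' hle).hom := by
    intro T u₀ W W' hW' hle
    have htop : (Fitt.ideal Γ(S, (im W).1) (Q (im W)) r).map
        ((u₀ ≫ O.ι).appLE (im W).1 W' (hle.trans (u₀.preimage_mono (him W)))).hom = ⊤ :=
      (map_eq_top_of_basicOpen _ hW' _ _).2 fun t ht => (hO (im W) ((hle.trans (u₀.preimage_mono (him W))) ht)).1 (u₀ t).2
    rw [← Ideal.map_eq_bot_iff_le_ker, Ideal.map_map, ← CommRingCat.hom_comp,
      Scheme.Hom.appLE_comp_appLE]
    rw [Ideal.map_iSup, iSup_eq_bot]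
    exact ⟨fun h k => h.2 _ k.2, fun h => ⟨htop, fun k hk => h ⟨k, hk⟩⟩⟩
  have hcompat : ∀ (W : O.toScheme.affineOpens) (a : Γ(O, W.1)),
      (I W).map (O.toScheme.presheaf.map (homOfLE (O.toScheme.basicOpen_le a)).op).hom =
        I (O.toScheme.affineBasicOpen a) := by
    intro W a
    let D := O.toScheme.affineBasicOpen a
    let res := O.toScheme.presheaf.map (homOfLE (O.toScheme.basicOpen_le a)).op
    have test : ∀ J : Ideal Γ(O, D.1), (I W).map res.hom ≤ J ↔ I D ≤ J := by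
      intro J
      let φ : Γ(O, D.1) ⟶ CommRingCat.of (Γ(O, D.1) ⧸ J) := CommRingCat.ofHom (Ideal.Quotient.mk J)
      let u₀ := Spec.map φ ≫ D.2.fromSpec
      have hleD : (⊤ : (Spec (CommRingCat.of (Γ(O, D.1) ⧸ J))).Opens) ≤ u₀ ⁻¹ᵁ D.1 := fun z _ =>
        D.2.range_fromSpec.le ⟨Spec.map φ z, rfl⟩
      have hleW : (⊤ : (Spec (CommRingCat.of (Γ(O, D.1) ⧸ J))).Opens) ≤ u₀ ⁻¹ᵁ W.1 :=
        hleD.trans (u₀.preimage_mono (O.toScheme.basicOpen_le a))
      have hker : RingHom.ker (u₀.appLE D.1 ⊤ hleD).hom = J := by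
        rw [appLE_SpecMap_fromSpec D.2 φ hleD]
        ext x
        rw [RingHom.mem_ker, CommRingCat.comp_apply, map_eq_zero_iff _
          (ConcreteCategory.bijective_of_isIso (Scheme.ΓSpecIso _).inv).1]
        exact Ideal.Quotient.eq_zero_iff_mem
      have hW' : u₀.appLE W.1 ⊤ hleW = res ≫ u₀.appLE D.1 ⊤ hleD :=
        (Scheme.Hom.map_appLE u₀ hleD (homOfLE (O.toScheme.basicOpen_le a)).op).symm
      have h1 := hI u₀ W (isAffineOpen_top _) hleW
      rw [idealCond_iff_secRank f (hQ (im W)) _ (isAffineOpen_top _),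
        ← idealCond_iff_secRank f (hQ (im D)) _ (isAffineOpen_top _) (hleD.trans (u₀.preimage_mono (him D))),
        hI u₀ D (isAffineOpen_top _) hleD, hW', CommRingCat.hom_comp, ← RingHom.comap_ker] at h1
      erw [hker] at h1
      rw [← Ideal.map_le_iff_le_comap] at h1
      exact h1.symm
    exact le_antisymm ((test _).2 le_rfl) ((test _).1 le_rfl)
  let J : O.toScheme.IdealSheafData := { ideal := I, map_ideal_basicOpen := hcompat }
  haveI : LocallyOfFinitePresentation J.subschemeι :=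
    H7Lim.locallyOfFinitePresentation_of_ker_fg _ fun W => by
      rw [Scheme.IdealSheafData.ker_subschemeι]
      exact Ideal.FG.map (Submodule.fg_iSup (fun k : Fin r => Fitt.ideal Γ(S, (im W).1) (Q (im W)) k.1) fun k => H29Fitt.ideal_fg k.1) _
  haveI : QuasiCompact O.ι := by
    refine quasiCompact_iff_forall_isAffineOpen.2 fun V hV => ?_
    haveI := (hQ ⟨V, hV⟩).1
    obtain ⟨G, hG⟩ := H29Fitt.ideal_fg (R := Γ(S, V)) (M := Q ⟨V, hV⟩) r
    rw [O.ι.isOpenEmbedding.isInducing.isCompact_iff]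
    have : O.ι '' (O.ι ⁻¹ᵁ V : Set O.toScheme) = ⋃ a ∈ G, (S.basicOpen a : Set S) := by
      ext s
      simp only [Set.mem_image, Set.mem_iUnion, SetLike.mem_coe]
      constructor
      · rintro ⟨x, hx, rfl⟩
        obtain ⟨a, ha, hsa⟩ := (hO ⟨V, hV⟩ hx).1 x.2
        by_contra hne
        push Not at hne
        have hx' : O.ι x ∈ V := hx
        refine (basicOpen_iff_not_mem_prime hV hx' a).1 hsa ?_
        exact (hG ▸ Ideal.span_le.2 fun b hb =>
          not_not.1 fun hn => hne b hb ((basicOpen_iff_not_mem_prime hV hx' b).2 hn) :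
            Fitt.ideal Γ(S, V) (Q ⟨V, hV⟩) r ≤ _) ha
      · rintro ⟨a, ha, hsa⟩
        have hs : s ∈ V := S.basicOpen_le a hsa
        exact ⟨⟨s, (hO ⟨V, hV⟩ hs).2 ⟨a, hG ▸ Ideal.subset_span ha, hsa⟩⟩, hs, rfl⟩
    rw [this]
    exact G.finite_toSet.isCompact_biUnion fun a _ => (hV.basicOpen a).isCompact
  have huniv : ∀ (T XT : Scheme.{u}) (u : T ⟶ S) (fT : XT ⟶ T) (gT : XT ⟶ X), IsPullback gT fT f u →
      ((∃ u' : T ⟶ J.subscheme, u' ≫ J.subschemeι ≫ O.ι = u) ↔ Cond F r fT gT) := by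
    intro T XT u fT gT hT
    constructor
    · rintro ⟨u', rfl⟩
      refine cond_of_idealCond f hfp hfl hT fun t => ?_
      let u₀ := u' ≫ J.subschemeι
      obtain ⟨W, hW, hmem, -⟩ := exists_isAffineOpen_mem_and_subset (U := (⊤ : O.toScheme.Opens)) (x := u₀ t) trivial
      obtain ⟨W', hW', htW', hle⟩ := exists_isAffineOpen_mem_and_subset (U := u₀ ⁻¹ᵁ W) (x := t) hmem
      have hc : IdealCond (Q (im ⟨W, hW⟩)) r
          ((u₀ ≫ O.ι).appLE (im ⟨W, hW⟩).1 W' (Set.Subset.trans hle (u₀.preimage_mono (him ⟨W, hW⟩)))).hom :=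
        (hI u₀ ⟨W, hW⟩ hW' hle).2 fun x hx => by
          rw [RingHom.mem_ker, Scheme.Hom.comp_appLE, CommRingCat.comp_apply,
            (RingHom.mem_ker.1 ((J.ker_subschemeι_app ⟨W, hW⟩).ge hx))]
          exact map_zero _
      refine ⟨(im ⟨W, hW⟩).1, (im ⟨W, hW⟩).2, Q _, W', hW', ?_, htW', hQ _, ?_⟩
      · rw [← Category.assoc]
        exact Set.Subset.trans hle (u₀.preimage_mono (him ⟨W, hW⟩))
      · simpa only [u₀, Category.assoc] using hc
    · intro h
      have hrange : Set.range u ⊆ Set.range O.ι := by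
        rw [Scheme.Opens.range_ι]
        rintro _ ⟨t, rfl⟩
        obtain ⟨V, hV, hV', -⟩ := exists_isAffineOpen_mem_and_subset (U := (⊤ : S.Opens)) (x := u t) trivial
        obtain ⟨W, hW, htW, hWle⟩ := exists_isAffineOpen_mem_and_subset (U := u ⁻¹ᵁ V) (x := t) hV'
        obtain ⟨a, ha, hta⟩ :=
          (map_eq_top_of_basicOpen u hW hWle _).1 (idealCond_of_cond f (hQ ⟨V, hV⟩) hT h hW hWle).1 t htW
        exact (hO ⟨V, hV⟩ hV').2 ⟨a, ha, hta⟩
      obtain ⟨u₀, rfl⟩ : ∃ u₀ : T ⟶ O, u₀ ≫ O.ι = u := ⟨_, IsOpenImmersion.lift_fac O.ι u hrange⟩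
      refine ⟨IsClosedImmersion.lift J.subschemeι u₀ ?_, by rw [← Category.assoc, IsClosedImmersion.lift_fac]⟩
      rw [Scheme.IdealSheafData.ker_subschemeι]
      refine Scheme.IdealSheafData.le_ofIdeals_iff.2 fun W x hx => RingHom.mem_ker.2 ?_
      refine TopCat.Presheaf.section_ext ⟨T.presheaf, T.sheaf.property⟩ _ _ _ fun t ht => ?_
      obtain ⟨W', hW', htW', hWle⟩ := exists_isAffineOpen_mem_and_subset (U := u₀ ⁻¹ᵁ W.1) (x := t) ht
      have hz : u₀.appLE W.1 W' hWle x = 0 := RingHom.mem_ker.1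
        ((hI u₀ W hW' hWle).1 (idealCond_of_cond f (hQ (im W)) hT h hW' _) hx)
      rw [map_zero, ← TopCat.Presheaf.germ_res_apply T.presheaf (homOfLE hWle) t htW']
      exact (congrArg (T.presheaf.germ W' t htW') hz).trans (map_zero _)
  refine ⟨J.subscheme, J.subschemeι ≫ O.ι, inferInstance, inferInstance, inferInstance, huniv, ?_⟩
  ext s
  constructor
  · rintro ⟨z, rfl⟩
    obtain ⟨V, hV, hsV, -⟩ :=
      exists_isAffineOpen_mem_and_subset (U := (⊤ : S.Opens)) (x := (J.subschemeι ≫ O.ι) z) trivial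
    let g := J.subschemeι ≫ O.ι
    let K := J.subscheme.residueField z
    have hle₁ : (⊤ : (Spec K).Opens) ≤ (J.subscheme.fromSpecResidueField z ≫ g) ⁻¹ᵁ V := fun x _ => by
      show g (J.subscheme.fromSpecResidueField z x) ∈ V
      rw [Scheme.fromSpecResidueField_apply]
      exact hsV
    have hT := IsPullback.of_hasPullback f (J.subscheme.fromSpecResidueField z ≫ g)
    have hc := idealCond_of_cond f (hQ ⟨V, hV⟩) hT ((huniv _ _ _ _ _ hT).1
      ⟨_, rfl⟩) (isAffineOpen_top _) hle₁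
    refine (fiberRank_eq_iff f (hQ ⟨V, hV⟩) hsV).2 ?_
    letI : Field Γ(Spec (S.residueField (g z)), ⊤) := (isField_Γ (S.residueField (g z) : Type u)).toField
    letI : Field Γ(Spec K, ⊤) := (isField_Γ (J.subscheme.residueField z : Type u)).toField
    rw [← idealCond_comp_field_iff ((Spec.map (g.residueFieldMap z)).appLE ⊤ ⊤ le_rfl).hom, ← CommRingCat.hom_comp,
      Scheme.Hom.appLE_comp_appLE]
    exact idealCond_congr hc _ (Scheme.Hom.SpecMap_residueFieldMap_fromSpecResidueField g z).symm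
  · intro hs
    obtain ⟨V, hV, hsV, -⟩ := exists_isAffineOpen_mem_and_subset (U := (⊤ : S.Opens)) (x := s) trivial
    have hT := IsPullback.of_hasPullback f (S.fromSpecResidueField s)
    obtain ⟨u', hu'⟩ := (huniv _ _ _ _ _ hT).2 (cond_of_idealCond f hfp hfl hT fun t =>
      ⟨V, hV, Q ⟨V, hV⟩, ⊤, isAffineOpen_top _, le_fromSpecResidueField hsV, trivial, hQ _,
        (fiberRank_eq_iff f (hQ ⟨V, hV⟩) hsV).1 hs⟩)
    haveI : Nonempty (Spec (S.residueField s)) := inferInstanceAs (Nonempty (PrimeSpectrum (S.residueField s)))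
    let x : Spec (S.residueField s) := Classical.arbitrary _
    refine ⟨u' x, ?_⟩
    have := congrArg (fun φ => φ x) hu'
    simpa [Scheme.fromSpecResidueField_apply] using this

end Groth.Agent.LeadStrat
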